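import Mathlib

/-!
# An abstract dévissage over a noetherian ring (helper6)

`B` an algebra over a noetherian ring `R`, flat as a module, `π i : B → C i` algebra maps to flat
algebras and `a : B`.  If for every field `K` over `R` an element `y` of `K ⊗ B` with
`π i (a ^ m y) = 0` for suitable `m` (for every `i`) is killed by a power of `a`, the same
holds with every `R`-module in place of `K`.
-/

set_option autoImplicit false
set_option linter.unusedSectionVars false
set_option linter.unusedVariables false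
set_option linter.unusedSimpArgs false
set_option linter.style.haveILetI false
set_option linter.overlappingInstances false
set_option maxHeartbeats 800000
set_option synthInstance.maxHeartbeats 400000

noncomputable section

namespace Groth.Agent.Lib.Helper6.TorsDens2

open TensorProduct

universe u v w

section Abstract

variable {R : Type u} [CommRing R]
  {B : Type v} [CommRing B] [Algebra R B]
  {ι : Type*} {C : ι → Type w} [∀ i, CommRing (C i)] [∀ i, Algebra R (C i)]
  (π : ∀ i, B →ₐ[R] C i) (a : B)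

/-- multiplication by `a ^ m` on `N ⊗ B` -/
def opA (N : Type*) [AddCommGroup N] [Module R N] (m : ℕ) : N ⊗[R] B →ₗ[R] N ⊗[R] B :=
  (LinearMap.mulLeft R (a ^ m)).lTensor N

/-- the map `N ⊗ B → N ⊗ C i` -/
def piT (N : Type*) [AddCommGroup N] [Module R N] (i : ι) : N ⊗[R] B →ₗ[R] N ⊗[R] C i :=
  (π i).toLinearMap.lTensor N

variable {N N' : Type*} [AddCommGroup N] [Module R N] [AddCommGroup N'] [Module R N']

lemma opA_add (m k : ℕ) (y : N ⊗[R] B) : opA a N m (opA a N k y) = opA a N (m + k) y := by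
  unfold opA
  rw [← LinearMap.lTensor_comp_apply, ← LinearMap.mulLeft_mul, ← pow_add]

lemma piT_opA (i : ι) (k : ℕ) (z : N ⊗[R] B) :
    piT π N i (opA a N k z) =
      (LinearMap.mulLeft R ((π i a) ^ k)).lTensor N (piT π N i z) := by
  unfold piT opA
  rw [← LinearMap.lTensor_comp_apply, ← LinearMap.lTensor_comp_apply]
  have h : (π i).toLinearMap ∘ₗ LinearMap.mulLeft R (a ^ k) =
      LinearMap.mulLeft R ((π i a) ^ k) ∘ₗ (π i).toLinearMap := by
    ext b
    simp [map_mul, map_pow]
  rw [h]

lemma piT_opA_mono (i : ι) (m k : ℕ) (y : N ⊗[R] B) (h : piT π N i (opA a N m y) = 0) :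
    piT π N i (opA a N (m + k) y) = 0 := by
  rw [add_comm, ← opA_add, piT_opA, h, map_zero]

lemma lTensor_rTensor_comm {X Y : Type*} [AddCommGroup X] [Module R X] [AddCommGroup Y]
    [Module R Y] (f : N →ₗ[R] N') (φ : X →ₗ[R] Y) (y : N ⊗[R] X) :
    φ.lTensor N' (f.rTensor X y) = f.rTensor Y (φ.lTensor N y) := by
  induction y using TensorProduct.induction_on with
  | zero => simp only [map_zero]
  | tmul n x => simp only [LinearMap.lTensor_tmul, LinearMap.rTensor_tmul]
  | add y z hy hz => simp only [map_add, hy, hz]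

lemma opA_rTensor (f : N →ₗ[R] N') (m : ℕ) (y : N ⊗[R] B) :
    opA a N' m (f.rTensor B y) = f.rTensor B (opA a N m y) :=
  lTensor_rTensor_comm f _ y

lemma piT_rTensor (f : N →ₗ[R] N') (i : ι) (y : N ⊗[R] B) :
    piT π N' i (f.rTensor B y) = f.rTensor (C i) (piT π N i y) :=
  lTensor_rTensor_comm f _ y

/-- the property for a module `N` -/
def HasP (N : Type*) [AddCommGroup N] [Module R N] : Prop :=
  ∀ y : N ⊗[R] B, (∀ i, ∃ m, piT π N i (opA a N m y) = 0) → ∃ m, opA a N m y = 0

lemma concl_of_lift [∀ i, Module.Flat R (C i)] (f : N' →ₗ[R] N) (hf : Function.Injective f)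
    (h : HasP π a N') (y' : N' ⊗[R] B)
    (hy : ∀ i, ∃ m, piT π N i (opA a N m (f.rTensor B y')) = 0) :
    ∃ m, opA a N m (f.rTensor B y') = 0 := by
  have h1 : ∀ i, ∃ m, piT π N' i (opA a N' m y') = 0 := by
    intro i
    obtain ⟨m, hm⟩ := hy i
    refine ⟨m, ?_⟩
    have hinj := Module.Flat.rTensor_preserves_injective_linearMap (M := C i) f hf
    apply hinj
    rw [map_zero, ← piT_rTensor, ← opA_rTensor]
    exact hm
  obtain ⟨m, hm⟩ := h y' h1
  refine ⟨m, ?_⟩
  rw [opA_rTensor, hm, map_zero]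

lemma hasP_of_injective [Module.Flat R B] (f : N →ₗ[R] N') (hf : Function.Injective f)
    (h : HasP π a N') : HasP π a N := by
  intro y hy
  have h1 : ∀ i, ∃ m, piT π N' i (opA a N' m (f.rTensor B y)) = 0 := by
    intro i
    obtain ⟨m, hm⟩ := hy i
    refine ⟨m, ?_⟩
    rw [opA_rTensor, piT_rTensor, hm, map_zero]
  obtain ⟨m, hm⟩ := h _ h1
  refine ⟨m, ?_⟩
  have hinj := Module.Flat.rTensor_preserves_injective_linearMap (M := B) f hf
  apply hinj
  rw [map_zero, ← opA_rTensor]
  exact hm

lemma hasP_exact [Module.Flat R B] [∀ i, Module.Flat R (C i)]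
    {N₁ N₂ N₃ : Type*} [AddCommGroup N₁] [Module R N₁] [AddCommGroup N₂] [Module R N₂]
    [AddCommGroup N₃] [Module R N₃] (f : N₁ →ₗ[R] N₂) (g : N₂ →ₗ[R] N₃)
    (hf : Function.Injective f) (hg : Function.Surjective g) (hfg : Function.Exact f g)
    (h1 : HasP π a N₁) (h3 : HasP π a N₃) : HasP π a N₂ := by
  intro y hy
  have h3' : ∀ i, ∃ m, piT π N₃ i (opA a N₃ m (g.rTensor B y)) = 0 := by
    intro i
    obtain ⟨m, hm⟩ := hy i
    refine ⟨m, ?_⟩
    rw [opA_rTensor, piT_rTensor, hm, map_zero]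
  obtain ⟨m₃, hm₃⟩ := h3 _ h3'
  rw [opA_rTensor] at hm₃
  have hex : Function.Exact (f.rTensor B) (g.rTensor B) := rTensor_exact B hfg hg
  obtain ⟨y₁, hy₁⟩ := (hex _).mp hm₃
  have h1' : ∀ i, ∃ m, piT π N₂ i (opA a N₂ m (f.rTensor B y₁)) = 0 := by
    intro i
    obtain ⟨m, hm⟩ := hy i
    refine ⟨m, ?_⟩
    rw [hy₁, opA_add]
    exact piT_opA_mono π a i m m₃ y hm
  obtain ⟨m₁, hm₁⟩ := concl_of_lift π a f hf h1 y₁ h1'
  refine ⟨m₁ + m₃, ?_⟩
  rw [← opA_add, ← hy₁]
  exact hm₁

/-- the dévissage -/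
theorem hasP_all [IsNoetherianRing R] [Module.Flat R B] [∀ i, Module.Flat R (C i)]
    (hK : ∀ (K : Type u) [Field K] [Algebra R K], HasP π a K)
    (N : Type u) [AddCommGroup N] [Module R N] : HasP π a N := by
  have hfin : ∀ (N : Type u) [AddCommGroup N] [Module R N] [Module.Finite R N],
      HasP π a N := by
    intro N _ _ hN
    refine IsNoetherianRing.induction_on_isQuotientEquivQuotientPrime R hN
      (motive := fun N _ _ _ => HasP π a N) ?_ ?_ ?_
    · intro N _ _ _ _ y hy
      have hy0 : ∀ z : N ⊗[R] B, z = 0 := by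
        intro z
        induction z using TensorProduct.induction_on with
        | zero => rfl
        | tmul n b => rw [Subsingleton.elim n 0, TensorProduct.zero_tmul]
        | add y z hy hz => rw [hy, hz, add_zero]
      exact ⟨0, hy0 _⟩
    · intro N _ _ _ 𝔭 e
      have hinj : Function.Injective
          (((IsScalarTower.toAlgHom R (R ⧸ 𝔭.asIdeal)
            (FractionRing (R ⧸ 𝔭.asIdeal))).toLinearMap).comp e.toLinearMap) := by
        intro x x' hxx
        apply e.injective
        exact IsFractionRing.injective (R ⧸ 𝔭.asIdeal) (FractionRing (R ⧸ 𝔭.asIdeal)) hxx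
      exact hasP_of_injective π a _ hinj (hK (FractionRing (R ⧸ 𝔭.asIdeal)))
    · intro N₁ _ _ _ N₂ _ _ _ N₃ _ _ _ f g hf hg hfg h1 h3
      exact hasP_exact π a f g hf hg hfg h1 h3
  intro y hy
  obtain ⟨N', hN', hsub⟩ :=
    TensorProduct.exists_finite_submodule_left_of_setFinite {y} (Set.finite_singleton y)
  obtain ⟨y', hy'⟩ := hsub (Set.mem_singleton y)
  rw [← hy'] at hy ⊢
  exact concl_of_lift π a N'.subtype N'.injective_subtype (hfin N') y' hy

end Abstract

end Groth.Agent.Lib.Helper6.TorsDens2
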