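import Mathlib
import Groth.Agent.Lib.Helper6.TorsDens2.A1

/-!
# Reduction of the kernel property of group algebras to fields (helper6)

`KerProp S M`: for `a, y ∈ S[M]`, if for every `n > 0` some `a ^ m * y` dies in `S[M / Mⁿ]`, then
some `a ^ m * y` vanishes.  It holds over every ring as soon as it holds over all fields.
-/

set_option autoImplicit false
set_option linter.unusedSectionVars false
set_option linter.unusedVariables false
set_option linter.unusedSimpArgs false
set_option linter.style.haveILetI false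
set_option linter.overlappingInstances false
set_option maxHeartbeats 800000
set_option synthInstance.maxHeartbeats 400000

noncomputable section

namespace Groth.Agent.Lib.Helper6.TorsDens2

open TensorProduct

universe u v

section Defs

variable (S : Type u) [CommRing S] (M : Type v) [CommGroup M]

/-- the subgroup of `n`-th powers -/
def qH (n : ℕ) : Subgroup M := (powMonoidHom n : M →* M).range

/-- `S[M] → S[M / Mⁿ]` -/
def prn (n : ℕ) : MonoidAlgebra S M →ₐ[S] MonoidAlgebra S (M ⧸ qH M n) :=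
  MonoidAlgebra.mapDomainAlgHom S S (QuotientGroup.mk' (qH M n))

lemma prn_single (n : ℕ) (g : M) (r : S) :
    prn S M n (MonoidAlgebra.single g r) =
      MonoidAlgebra.single (QuotientGroup.mk' (qH M n) g) r := by
  simp [prn]

/-- the kernel property -/
def KerProp : Prop :=
  ∀ a y : MonoidAlgebra S M, (∀ n : ℕ, 0 < n → ∃ m : ℕ, prn S M n (a ^ m * y) = 0) →
    ∃ m : ℕ, a ^ m * y = 0

end Defs

section BC

variable (R₀ : Type u) [CommRing R₀] (S : Type u) [CommRing S] [Algebra R₀ S]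
  (M : Type v) [CommGroup M]

/-- coefficient change -/
def cc : MonoidAlgebra R₀ M →ₐ[R₀] MonoidAlgebra S M :=
  MonoidAlgebra.mapAlgHom M (Algebra.ofId R₀ S)

lemma cc_single (g : M) (r : R₀) :
    cc R₀ S M (MonoidAlgebra.single g r) = MonoidAlgebra.single g (algebraMap R₀ S r) := by
  simp [cc, Algebra.ofId_apply]

lemma prn_cc (n : ℕ) (p : MonoidAlgebra R₀ M) :
    prn S M n (cc R₀ S M p) = cc R₀ S (M ⧸ qH M n) (prn R₀ M n p) := by
  induction p using MonoidAlgebra.induction_linear with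
  | zero => simp only [map_zero]
  | add x y hx hy => simp only [map_add, hx, hy]
  | single g r => rw [cc_single, prn_single, prn_single, cc_single]

/-- the base change isomorphism -/
def θ : S ⊗[R₀] MonoidAlgebra R₀ M ≃ₐ[S] MonoidAlgebra S M :=
  MonoidAlgebra.scalarTensorEquiv R₀ S

lemma θ_tmul (s : S) (p : MonoidAlgebra R₀ M) : θ R₀ S M (s ⊗ₜ p) = s • cc R₀ S M p :=
  MonoidAlgebra.scalarTensorEquiv_tmul ..

lemma θ_opA (a₀ : MonoidAlgebra R₀ M) (m : ℕ) (z : S ⊗[R₀] MonoidAlgebra R₀ M) :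
    θ R₀ S M (opA (R := R₀) a₀ S m z) = (cc R₀ S M a₀) ^ m * θ R₀ S M z := by
  induction z using TensorProduct.induction_on with
  | zero => simp only [map_zero, mul_zero]
  | tmul s p =>
    unfold opA
    rw [LinearMap.lTensor_tmul, LinearMap.mulLeft_apply, θ_tmul, θ_tmul, map_mul, map_pow,
      mul_smul_comm]
  | add y z hy hz => simp only [map_add, mul_add, hy, hz]

lemma θ_piT (n : {n : ℕ // 0 < n}) (z : S ⊗[R₀] MonoidAlgebra R₀ M) :
    θ R₀ S (M ⧸ qH M n.1) (piT (fun n : {n : ℕ // 0 < n} => prn R₀ M n.1) S n z) =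
      prn S M n.1 (θ R₀ S M z) := by
  induction z using TensorProduct.induction_on with
  | zero => simp only [map_zero]
  | tmul s p =>
    unfold piT
    rw [LinearMap.lTensor_tmul, AlgHom.toLinearMap_apply, θ_tmul, θ_tmul, map_smul, prn_cc]
  | add y z hy hz => simp only [map_add, hy, hz]

theorem kerProp_aux [IsNoetherianRing R₀] (a₀ : MonoidAlgebra R₀ M)
    (hK : ∀ (K : Type u) [Field K], KerProp K M) (y : MonoidAlgebra S M)
    (hy : ∀ n : ℕ, 0 < n → ∃ m : ℕ, prn S M n ((cc R₀ S M a₀) ^ m * y) = 0) :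
    ∃ m : ℕ, (cc R₀ S M a₀) ^ m * y = 0 := by
  have hP : ∀ (K : Type u) [CommRing K] [Algebra R₀ K]
      (hker : ∀ y : MonoidAlgebra K M,
        (∀ n : ℕ, 0 < n → ∃ m : ℕ, prn K M n ((cc R₀ K M a₀) ^ m * y) = 0) →
          ∃ m : ℕ, (cc R₀ K M a₀) ^ m * y = 0),
      HasP (fun n : {n : ℕ // 0 < n} => prn R₀ M n.1) a₀ K := by
    intro K _ _ hker z hz
    obtain ⟨m, hm⟩ := hker (θ R₀ K M z) (by
      intro n hn
      obtain ⟨m, hm⟩ := hz ⟨n, hn⟩
      refine ⟨m, ?_⟩
      rw [← θ_opA, ← θ_piT R₀ K M ⟨n, hn⟩, hm, map_zero])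
    refine ⟨m, ?_⟩
    apply (θ R₀ K M).injective
    rw [θ_opA, hm, map_zero]
  have hall := hasP_all (fun n : {n : ℕ // 0 < n} => prn R₀ M n.1) a₀
    (fun K _ _ => hP K (fun y hy => hK K _ y hy)) S
  obtain ⟨m, hm⟩ := hall ((θ R₀ S M).symm y) (by
    intro n
    obtain ⟨m, hm⟩ := hy n.1 n.2
    refine ⟨m, ?_⟩
    apply (θ R₀ S (M ⧸ qH M n.1)).injective
    rw [θ_piT, θ_opA, AlgEquiv.apply_symm_apply, map_zero]
    exact hm)
  refine ⟨m, ?_⟩
  have := congrArg (θ R₀ S M) hm
  rwa [θ_opA, AlgEquiv.apply_symm_apply, map_zero] at this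

end BC

section Top

variable (M : Type v) [CommGroup M]

lemma exists_lift (R : Type u) [CommRing R] (R₀ : Subalgebra ℤ R) (a : MonoidAlgebra R M)
    (h : ∀ g, a.coeff g ∈ R₀) :
    ∃ a₀ : MonoidAlgebra R₀ M, cc R₀ R M a₀ = a := by
  classical
  refine ⟨∑ g ∈ a.coeff.support, MonoidAlgebra.single g ⟨a.coeff g, h g⟩, ?_⟩
  rw [map_sum]
  simp only [cc_single]
  apply MonoidAlgebra.coeff_injective
  rw [MonoidAlgebra.coeff_sum]
  simp only [MonoidAlgebra.coeff_single]
  exact a.coeff.sum_single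

/-- the kernel property over all fields implies it over all rings -/
theorem kerProp_of_fields (R : Type u) [CommRing R]
    (hK : ∀ (K : Type u) [Field K], KerProp K M) : KerProp R M := by
  classical
  intro a y hy
  obtain ⟨R₀, hR₀⟩ : ∃ R₀ : Subalgebra ℤ R,
      R₀ = Algebra.adjoin ℤ ((a.coeff.support.image a.coeff : Finset R) : Set R) := ⟨_, rfl⟩
  have hfg : R₀.FG := by
    rw [hR₀]
    exact Subalgebra.fg_adjoin_finset _
  haveI : Algebra.FiniteType ℤ R₀ := R₀.fg_iff_finiteType.mp hfg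
  haveI : IsNoetherianRing R₀ := Algebra.FiniteType.isNoetherianRing ℤ R₀
  have hmem : ∀ g, a.coeff g ∈ R₀ := by
    intro g
    by_cases hg : a.coeff g = 0
    · rw [hg]
      exact R₀.zero_mem
    · rw [hR₀]
      apply Algebra.subset_adjoin
      rw [Finset.mem_coe, Finset.mem_image]
      exact ⟨g, Finsupp.mem_support_iff.mpr hg, rfl⟩
  obtain ⟨a₀, ha₀⟩ := exists_lift M R R₀ a hmem
  rw [← ha₀] at hy ⊢
  exact kerProp_aux R₀ R M a₀ hK y hy

end Top

end Groth.Agent.Lib.Helper6.TorsDens2
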