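import Mathlib
import Groth.Prelude.Def_SGA3b
import Groth.Agent.Lib.Helper6.TorsDense.TD1
import Groth.Agent.Lib.Helper6.TorsDens2.A2

/-!
# The kernel property over fields, and the torsion ideals of a group algebra (helper6)
-/

set_option autoImplicit false
set_option linter.unusedSectionVars false
set_option linter.unusedVariables false
set_option linter.unusedSimpArgs false
set_option linter.style.haveILetI false
set_option linter.overlappingInstances false
set_option maxHeartbeats 800000
set_option synthInstance.maxHeartbeats 400000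

noncomputable section

namespace Groth.Agent.Lib.Helper6.TorsDens2

open TensorProduct SGA3b Coalgebra
open Groth.Agent.Lib.Helper6.MultType Groth.Agent.Lib.Helper6.TorsDense

universe u v w

section Field

variable (K : Type u) [Field K] (F : Type v) [CommGroup F]

lemma pow_quot (n : ℕ) (g : F ⧸ qH F n) : g ^ n = 1 := by
  obtain ⟨f, rfl⟩ := QuotientGroup.mk'_surjective (qH F n) g
  rw [← map_pow, ← MonoidHom.mem_ker, QuotientGroup.ker_mk']
  show f ^ n ∈ (powMonoidHom n : F →* F).range
  exact ⟨f, rfl⟩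

lemma finite_quot [Group.FG F] (n : ℕ) (hn : 0 < n) : Finite (F ⧸ qH F n) := by
  apply CommGroup.finite_of_fg_isMulTorsion
  intro g
  rw [isOfFinOrder_iff_pow_eq_one]
  exact ⟨n, hn, pow_quot F n g⟩

lemma card_ne_zero [Group.FG F] (p : ℕ) [CharP K p] (n : ℕ) (hn : 0 < n) (hpn : ¬ p ∣ n) :
    (Nat.card (F ⧸ qH F n) : K) ≠ 0 := by
  haveI := finite_quot F n hn
  intro h0
  rw [CharP.cast_eq_zero_iff K p] at h0
  rcases CharP.char_is_prime_or_zero K p with hp | hp
  · haveI : Fact p.Prime := ⟨hp⟩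
    obtain ⟨x, hx⟩ := exists_prime_orderOf_dvd_card' p h0
    apply hpn
    rw [← hx]
    exact orderOf_dvd_of_pow_eq_one (pow_quot F n x)
  · rw [hp, zero_dvd_iff] at h0
    exact (Nat.card_pos (α := F ⧸ qH F n)).ne' h0

lemma prn_mul_eq_zero [Group.FG F] (p : ℕ) [CharP K p] (n : ℕ) (hn : 0 < n) (hpn : ¬ p ∣ n)
    (a y : MonoidAlgebra K F) (m : ℕ) (h : prn K F n (a ^ m * y) = 0) :
    prn K F n (a * y) = 0 := by
  haveI := finite_quot F n hn
  haveI : NeZero (Nat.card (F ⧸ qH F n) : K) := ⟨card_ne_zero K F p n hn hpn⟩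
  haveI : IsSemisimpleRing (MonoidAlgebra K (F ⧸ qH F n)) := inferInstance
  haveI : IsReduced (MonoidAlgebra K (F ⧸ qH F n)) := inferInstance
  apply IsReduced.eq_zero
  refine ⟨m + 1, ?_⟩
  rw [map_mul, map_pow] at h
  rw [map_mul]
  calc (prn K F n a * prn K F n y) ^ (m + 1)
      = (prn K F n a * prn K F n y ^ m) * (prn K F n a ^ m * prn K F n y) := by ring
    _ = 0 := by rw [h, mul_zero]

theorem eq_zero_of_prn [Group.FG F] (p : ℕ) [CharP K p]
    (htf : ∀ g : F, ∀ n : ℕ, 0 < n → g ^ n = 1 → g = 1) (z : MonoidAlgebra K F)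
    (hz : ∀ n : ℕ, 0 < n → ¬ p ∣ n → prn K F n z = 0) : z = 0 := by
  classical
  by_contra hne
  have hp0 : p = 0 ∨ p.Prime := (CharP.char_is_prime_or_zero K p).symm
  haveI : AddGroup.FG (Additive F) := GroupFG.iff_add_fg.mp ‹Group.FG F›
  have htors : p.Prime → ∀ g : Additive F, p • g = 0 → g = 0 := by
    intro hp g hg
    have h1 : (Additive.toMul g) ^ p = 1 := by
      have := congrArg Additive.toMul hg
      simpa using this
    have h2 := htf (Additive.toMul g) p hp.pos h1
    have : g = Additive.ofMul (Additive.toMul g) := rfl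
    rw [this, h2]
    rfl
  let S : Finset F := z.coeff.support
  let D : Finset (Additive F) :=
    ((S ×ˢ S).filter (fun st => st.1 ≠ st.2)).image (fun st => Additive.ofMul (st.1⁻¹ * st.2))
  have hD : ∀ d ∈ D, d ≠ 0 := by
    intro d hd
    rw [Finset.mem_image] at hd
    obtain ⟨⟨s, t⟩, hst, rfl⟩ := hd
    rw [Finset.mem_filter] at hst
    intro h0
    have : s⁻¹ * t = 1 := h0
    apply hst.2
    show s = t
    rw [inv_mul_eq_one] at this
    exact this
  obtain ⟨n, hn, hpn, hnD⟩ := exists_forall_not_mem_smul hp0 htors D hD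
  have hinj : Set.InjOn (QuotientGroup.mk' (qH F n)) (S : Set F) := by
    intro s hs t ht hst
    by_contra hne'
    have h1 : s⁻¹ * t ∈ (powMonoidHom n : F →* F).range := by
      have := (QuotientGroup.eq (s := qH F n) (a := s) (b := t)).mp hst
      exact this
    obtain ⟨g, hg⟩ := h1
    have h2 : Additive.ofMul (s⁻¹ * t) ∈ D := by
      rw [Finset.mem_image]
      refine ⟨(s, t), ?_, rfl⟩
      rw [Finset.mem_filter, Finset.mem_product]
      exact ⟨⟨hs, ht⟩, hne'⟩
    apply hnD _ h2 (Additive.ofMul g)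
    show Additive.ofMul (g ^ n) = _
    have : g ^ n = s⁻¹ * t := hg
    rw [this]
  have hker : prn K F n z = 0 := hz n hn hpn
  have hSne : S.Nonempty := by
    rw [Finset.nonempty_iff_ne_empty]
    intro hS
    apply hne
    rw [← MonoidAlgebra.coeff_inj, MonoidAlgebra.coeff_zero]
    exact Finsupp.support_eq_empty.mp hS
  obtain ⟨m₀, hm₀⟩ := hSne
  have h3 : (prn K F n z).coeff (QuotientGroup.mk' (qH F n) m₀) = z.coeff m₀ := by
    show (MonoidAlgebra.mapDomain (QuotientGroup.mk' (qH F n)) z).coeff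
      (QuotientGroup.mk' (qH F n) m₀) = z.coeff m₀
    rw [MonoidAlgebra.coeff_mapDomain]
    exact Finsupp.mapDomain_apply' (S : Set F) z.coeff subset_rfl hinj hm₀
  rw [hker, MonoidAlgebra.coeff_zero, Finsupp.zero_apply] at h3
  exact (Finsupp.mem_support_iff.mp hm₀) h3.symm

/-- the kernel property for a finitely generated torsion-free group over a field -/
theorem kerProp_field [Group.FG F] (htf : ∀ g : F, ∀ n : ℕ, 0 < n → g ^ n = 1 → g = 1) :
    KerProp K F := by
  intro a y hy
  refine ⟨1, ?_⟩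
  rw [pow_one]
  haveI : CharP K (ringChar K) := ringChar.charP K
  apply eq_zero_of_prn K F (ringChar K) htf
  intro n hn hpn
  obtain ⟨m, hm⟩ := hy n hn
  exact prn_mul_eq_zero K F (ringChar K) n hn hpn a y m hm

end Field

section Transfer

variable (S : Type u) [CommRing S] {M : Type u} [CommGroup M] {F : Type v} {T : Type w}
  [CommGroup F] [CommGroup T] (e : M ≃* F × T)

/-- `S[M] ≃ S[T][F]` -/
def Φ : MonoidAlgebra S M ≃+* MonoidAlgebra (MonoidAlgebra S T) F :=
  (MonoidAlgebra.mapDomainRingEquiv S e).trans MonoidAlgebra.curryRingEquiv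

lemma Φ_single (g : M) (r : S) :
    Φ S e (MonoidAlgebra.single g r) =
      MonoidAlgebra.single (e g).1 (MonoidAlgebra.single (e g).2 r) := by
  unfold Φ
  rw [RingEquiv.trans_apply, MonoidAlgebra.mapDomainRingEquiv_single]
  generalize e g = x
  obtain ⟨f, t⟩ := x
  exact MonoidAlgebra.curryRingEquiv_single f t r

lemma Φ_powConv (N n' : ℕ) (hT : ∀ t : T, t ^ N = 1) (z : MonoidAlgebra S M) :
    prn (MonoidAlgebra S T) F n' (Φ S e (powConv S (MonoidAlgebra S M) (N * n') z)) =
      MonoidAlgebra.single 1 (MonoidAlgebra.single 1 (counit (R := S) z)) := by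
  induction z using MonoidAlgebra.induction_linear with
  | zero => simp only [map_zero, MonoidAlgebra.single_zero]
  | add x y hx hy => simp only [map_add, hx, hy, MonoidAlgebra.single_add]
  | single g r =>
    rw [powConv_single, Φ_single, prn_single, MonoidAlgebra.counit_single,
      CommSemiring.counit_apply]
    have h2 : (e (g ^ (N * n'))).2 = 1 := by
      rw [map_pow, Prod.pow_snd, pow_mul, hT, one_pow]
    have h1 : QuotientGroup.mk' (qH F n') (e (g ^ (N * n'))).1 = 1 := by
      rw [← MonoidHom.mem_ker, QuotientGroup.ker_mk', map_pow, Prod.pow_fst, pow_mul]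
      show ((e g).1 ^ N) ^ n' ∈ (powMonoidHom n' : F →* F).range
      exact ⟨(e g).1 ^ N, rfl⟩
    rw [h1, h2]

lemma Φ_torsionIdeal_le (N n' : ℕ) (hT : ∀ t : T, t ^ N = 1) {z : MonoidAlgebra S M}
    (hz : z ∈ torsionIdeal S (MonoidAlgebra S M) (N * n')) :
    prn (MonoidAlgebra S T) F n' (Φ S e z) = 0 := by
  have hle : torsionIdeal S (MonoidAlgebra S M) (N * n') ≤
      Ideal.comap ((prn (MonoidAlgebra S T) F n').toRingHom.comp (Φ S e).toRingHom) ⊥ := by
    rw [torsionIdeal, Ideal.map_le_iff_le_comap]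
    intro w hw
    rw [RingHom.mem_ker] at hw
    rw [Ideal.mem_comap, Ideal.mem_comap, Ideal.mem_bot]
    show prn (MonoidAlgebra S T) F n' (Φ S e (powConv S (MonoidAlgebra S M) (N * n') w)) = 0
    rw [Φ_powConv S e N n' hT]
    have : counit (R := S) w = 0 := hw
    rw [this, MonoidAlgebra.single_zero, MonoidAlgebra.single_zero]
  have := hle hz
  rw [Ideal.mem_comap, Ideal.mem_bot] at this
  exact this

end Transfer

section Tors

/-- the torsion ideals of a finitely generated group algebra are dense in every basic open -/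
theorem torsProp (S : Type u) [CommRing S] (M : Type u) [CommGroup M] [Group.FG M]
    (a y : MonoidAlgebra S M)
    (hy : ∀ n : ℕ, 0 < n → ∃ m : ℕ, a ^ m * y ∈ torsionIdeal S (MonoidAlgebra S M) n) :
    ∃ m : ℕ, a ^ m * y = 0 := by
  obtain ⟨ι, j, _, _, p, hp, ee, ⟨e⟩⟩ := CommGroup.equiv_free_prod_prod_multiplicative_zmod M
  haveI : ∀ i, NeZero (p i ^ ee i) := fun i => ⟨pow_ne_zero _ (hp i).ne_zero⟩
  haveI : Finite (∀ i, Multiplicative (ZMod (p i ^ ee i))) := inferInstance
  have hN : 0 < Nat.card (∀ i, Multiplicative (ZMod (p i ^ ee i))) := Nat.card_pos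
  have hT : ∀ t : (∀ i, Multiplicative (ZMod (p i ^ ee i))),
      t ^ Nat.card (∀ i, Multiplicative (ZMod (p i ^ ee i))) = 1 := fun t => pow_card_eq_one'
  haveI : Group.FG (j → Multiplicative ℤ) := by
    refine Group.fg_of_surjective (f := (MonoidHom.fst _ _).comp e.toMonoidHom) ?_
    intro x
    refine ⟨e.symm (x, 1), ?_⟩
    simp
  have htf : ∀ g : j → Multiplicative ℤ, ∀ n : ℕ, 0 < n → g ^ n = 1 → g = 1 := by
    intro g n hn hg
    funext k
    have hk : (g k) ^ n = 1 := congrFun hg k
    have h2 : n • Multiplicative.toAdd (g k) = 0 := by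
      rw [← toAdd_pow, hk]
      rfl
    rcases smul_eq_zero.mp h2 with h | h
    · omega
    · exact toAdd_eq_zero.mp h
  have hker : KerProp (MonoidAlgebra S (∀ i, Multiplicative (ZMod (p i ^ ee i))))
      (j → Multiplicative ℤ) :=
    kerProp_of_fields _ _ (fun K _ => kerProp_field K _ htf)
  obtain ⟨m, hm⟩ := hker (Φ S e a) (Φ S e y) (by
    intro n' hn'
    obtain ⟨m, hm⟩ := hy (Nat.card (∀ i, Multiplicative (ZMod (p i ^ ee i))) * n')
      (Nat.mul_pos hN hn')
    refine ⟨m, ?_⟩
    rw [← map_pow, ← map_mul]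
    exact Φ_torsionIdeal_le S e _ n' hT hm)
  refine ⟨m, ?_⟩
  apply (Φ S e).injective
  rw [map_mul, map_pow, hm, map_zero]

end Tors

end Groth.Agent.Lib.Helper6.TorsDens2
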