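import Mathlib
import Groth.Prelude.Def_SGA3b
import Groth.Agent.Lib.Helper6.TorsDense.TD1
import Groth.Agent.Lib.Helper6.Lift.Charts
import Groth.Agent.Lib.Helper6.IsoJac.IJ1
import Groth.Agent.Lib.Helper6.TorsDens2.A3

/-!
# Schematic density of the torsion in a group of multiplicative type of finite type (helper6)
-/

set_option autoImplicit false
set_option linter.unusedSectionVars false
set_option linter.unusedVariables false
set_option linter.unusedSimpArgs false
set_option linter.style.haveILetI false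
set_option linter.overlappingInstances false
set_option maxHeartbeats 800000
set_option synthInstance.maxHeartbeats 400000

noncomputable section

namespace Groth.Agent.Lib.Helper6.TorsDens2

open TensorProduct SGA3b Coalgebra
open Groth.Agent.Lib.Helper6.MultType Groth.Agent.Lib.Helper6.TorsDense
open Groth.Agent.Lib.Helper6.Lift Groth.Agent.Lib.Helper6.IsoJac

universe u

variable (R : Type u) [CommRing R] (A : Type u) [CommRing A] [HopfAlgebra R A]

theorem exists_pow_mul_eq_zero (hft : Algebra.FiniteType R A) (h : IsMultType R A) (a y : A)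
    (hy : ∀ n : ℕ, 0 < n → ∃ m : ℕ, a ^ m * y ∈ torsionIdeal R A n) :
    ∃ m : ℕ, a ^ m * y = 0 := by
  classical
  obtain ⟨ι, _, _, c, hc⟩ := IsMultType.exists_charts h
  haveI := hft
  have key : ∀ i, ∃ m : ℕ, (1 : (c i).S) ⊗ₜ[R] (a ^ m * y) = 0 := by
    intro i
    rcases subsingleton_or_nontrivial (c i).S with hsub | hnt
    · refine ⟨0, ?_⟩
      rw [Subsingleton.elim (1 : (c i).S) 0, TensorProduct.zero_tmul]
    · obtain ⟨M, _, ⟨e⟩⟩ := (c i).diag
      haveI : Algebra.FiniteType (c i).S ((c i).S ⊗[R] A) := inferInstance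
      have hft' : Algebra.FiniteType (c i).S (MonoidAlgebra (c i).S M) :=
        Algebra.FiniteType.equiv inferInstance
          (e : (c i).S ⊗[R] A ≃ₐ[(c i).S] MonoidAlgebra (c i).S M)
      haveI hfg : Group.FG M := MonoidAlgebra.finiteType_iff_group_fg.mp hft'
      have hmul : ∀ m : ℕ, e ((1 : (c i).S) ⊗ₜ[R] (a ^ m * y)) =
          e ((1 : (c i).S) ⊗ₜ[R] a) ^ m * e ((1 : (c i).S) ⊗ₜ[R] y) := by
        intro m
        have h1 : (1 : (c i).S) ⊗ₜ[R] (a ^ m * y) =
            ((1 : (c i).S) ⊗ₜ[R] a) ^ m * ((1 : (c i).S) ⊗ₜ[R] y) := by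
          rw [Algebra.TensorProduct.tmul_pow, one_pow, Algebra.TensorProduct.tmul_mul_tmul,
            one_mul]
        rw [h1]
        exact (map_mul (e : (c i).S ⊗[R] A ≃ₐ[(c i).S] MonoidAlgebra (c i).S M) _ _).trans
          (by rw [map_pow]; rfl)
      obtain ⟨m, hm⟩ := torsProp (c i).S M (e ((1 : (c i).S) ⊗ₜ[R] a))
        (e ((1 : (c i).S) ⊗ₜ[R] y)) (by
        intro n hn
        obtain ⟨m, hm⟩ := hy n hn
        refine ⟨m, ?_⟩
        have h1 : (1 : (c i).S) ⊗ₜ[R] (a ^ m * y) ∈ torsionIdeal (c i).S ((c i).S ⊗[R] A) n :=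
          one_tmul_mem_torsionIdeal (c i).S n hm
        have h2 := bialgHom_mem_torsionIdeal
          (e : (c i).S ⊗[R] A →ₐc[(c i).S] MonoidAlgebra (c i).S M) n h1
        rw [← hmul m]
        exact h2)
      refine ⟨m, ?_⟩
      have h0 : e ((1 : (c i).S) ⊗ₜ[R] (a ^ m * y)) = 0 := by
        rw [hmul m]
        exact hm
      exact e.injective (h0.trans (map_zero e).symm)
  choose m hm using key
  refine ⟨∑ i, m i, ?_⟩
  apply eq_zero_of_family' (fun i => (c i).S) (fun 𝔪 h𝔪 => hc 𝔪 h𝔪.ne_top)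
  intro i
  have hle : m i ≤ ∑ i, m i :=
    Finset.single_le_sum (fun _ _ => Nat.zero_le _) (Finset.mem_univ i)
  obtain ⟨k, hk⟩ := Nat.exists_eq_add_of_le hle
  rw [hk, pow_add, mul_comm (a ^ m i) (a ^ k), mul_assoc]
  have h1 : (1 : (c i).S) ⊗ₜ[R] (a ^ k * (a ^ m i * y)) =
      ((1 : (c i).S) ⊗ₜ[R] (a ^ k)) * ((1 : (c i).S) ⊗ₜ[R] (a ^ m i * y)) := by
    rw [Algebra.TensorProduct.tmul_mul_tmul, one_mul]
  rw [h1, hm i, mul_zero]

/-- schematic density of the torsion in the basic opens of a group of multiplicative type of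
finite type -/
theorem iInf_map_torsionIdeal_eq_bot (hft : Algebra.FiniteType R A) (h : IsMultType R A) (a : A) :
    ⨅ n : {n : ℕ // 0 < n},
      Ideal.map (algebraMap A (Localization.Away a)) (torsionIdeal R A n.1) = ⊥ := by
  rw [eq_bot_iff]
  intro x hx
  rw [Submodule.mem_iInf] at hx
  obtain ⟨y, s, rfl⟩ := IsLocalization.exists_mk'_eq (Submonoid.powers a) x
  have key : ∀ n : ℕ, 0 < n → ∃ m : ℕ, a ^ m * y ∈ torsionIdeal R A n := by
    intro n hn
    have h1 := hx ⟨n, hn⟩
    rw [IsLocalization.mem_map_algebraMap_iff (Submonoid.powers a)] at h1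
    obtain ⟨⟨i, s'⟩, h2⟩ := h1
    have h3 : algebraMap A (Localization.Away a) (y * s') =
        algebraMap A (Localization.Away a) (i * s) := by
      rw [map_mul, map_mul, ← h2, mul_right_comm, IsLocalization.mk'_spec]
    obtain ⟨c, hc⟩ := (IsLocalization.eq_iff_exists (Submonoid.powers a) _).mp h3
    obtain ⟨k₁, hk₁⟩ := (Submonoid.mem_powers_iff _ _).mp c.2
    obtain ⟨k₂, hk₂⟩ := (Submonoid.mem_powers_iff _ _).mp s'.2
    refine ⟨k₁ + k₂, ?_⟩
    have h4 : a ^ (k₁ + k₂) * y = c * (i * s) := by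
      rw [← hc, pow_add, hk₁, hk₂]
      ring
    rw [h4]
    exact Ideal.mul_mem_left _ _ (Ideal.mul_mem_right _ _ i.2)
  obtain ⟨m, hm⟩ := exists_pow_mul_eq_zero R A hft h a y key
  rw [Submodule.mem_bot, IsLocalization.mk'_eq_zero_iff]
  exact ⟨⟨a ^ m, m, rfl⟩, hm⟩

end Groth.Agent.Lib.Helper6.TorsDens2
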